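import Cfsg.Agent.SporB.Fi23.A4.Check0

set_option autoImplicit false
set_option maxRecDepth 100000

namespace Cfsg.Agent.CosetEnum.Fi23.A4

theorem dok0 : allRange sys.checkDef 0 120 = true := by decide +kernel

def fchunks : List (ℕ × ℕ) := [(121, fv0)]

def rchunks : List (ℕ × ℕ) := [(64, rv0), (56, rv1)]

theorem factsOK : sys.FactsOK 120 fchunks := ⟨fok0, trivial⟩

theorem rowsOK : sys.RowsOK 120 241 0 rchunks := ⟨rok0, rok1, trivial⟩

theorem cert : Cert sys 120 120 241 :=
  Cert.of_chunks [120] fchunks rchunks (by decide) ⟨dok0, trivial⟩ (by decide +kernel) factsOK (by decide +kernel) rowsOK (by decide +kernel)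

theorem rules_ok : sys.rules.all (fun R => R.check sys rels subs) = true := by decide +kernel

theorem inv_ok : allRange (fun l => Nat.beq (sys.inv l) l) 0 (sys.nl + 1) = true := by decide +kernel

end Cfsg.Agent.CosetEnum.Fi23.A4
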